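import Groth.Agent.Etsix.H627.BcPlus
import Groth.Agent.Sga4h.BidLimAb
import Groth.Agent.Etrest.DEtPush
import Groth.Agent.S0101

/-!
# Comparison of base change for sheaves of modules and abelian sheaves

* `quasiIso_of_isIso_bcD`: for the total derived functors of `Etrest.RDer4`, if the derived base change
  transformation is an isomorphism at a bounded below complex `T` of acyclic objects, then
  `E' G T ⟶ G₂ E T ⟶ G₂ J` is a quasi-isomorphism for every bounded below resolution `E T ⟶ J` by acyclic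
  objects;
* `bcM_eq`: `EtSix.baseChange0Mod` is `BidLimAb.bcM`;
* `isIso_bcMapMod`: `EtSix.bcMapMod` at `K` is an isomorphism if `DEtPush.bcEt` is an isomorphism at the
  underlying complex of abelian sheaves.
-/

set_option autoImplicit false

universe w w' w'' w''' v v' v'' v''' u u' u'' u'''

open CategoryTheory Category Limits AlgebraicGeometry Opposite

namespace Groth.Agent.Etsix.H627.BcModAb

section abs

open Groth.Agent.Etrest Groth.Agent.Etrest.RDer2 Groth.Agent.Etrest.RDer3 Groth.Agent.Etrest.RDer4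

variable {A : Type u} [Category.{v} A] [Abelian A] [HasDerivedCategory.{w} A] [HasKInj A]
  {B : Type u'} [Category.{v'} B] [Abelian B] [HasDerivedCategory.{w'} B]
  {A₂ : Type u''} [Category.{v''} A₂] [Abelian A₂] [HasDerivedCategory.{w''} A₂] [HasKInj A₂]
  {B₂ : Type u'''} [Category.{v'''} B₂] [Abelian B₂] [HasDerivedCategory.{w'''} B₂]
  {G : A ⥤ B} [G.Additive] {G₂ : A₂ ⥤ B₂} [G₂.Additive]
  {E : A ⥤ A₂} [E.Additive] [PreservesFiniteLimits E] [PreservesFiniteColimits E]
  {E' : B ⥤ B₂} [E'.Additive] [PreservesFiniteLimits E'] [PreservesFiniteColimits E']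

/-- If the derived base change transformation is an isomorphism at `T`, then base change on complexes followed
by a resolution is a quasi-isomorphism. -/
theorem quasiIso_of_isIso_bcD [EnoughInjectives A] [PreservesFiniteLimits G] [EnoughInjectives A₂]
    [PreservesFiniteLimits G₂] (bc : G ⋙ E' ⟶ E ⋙ G₂) (T : CochainComplex A ℤ) (a : ℤ) [T.IsStrictlyGE a]
    (hT : ∀ i, IsAcyc G (T.X i)) (h : IsIso ((bcD bc).app (DerivedCategory.Q.obj T)))
    (J : CochainComplex A₂ ℤ) (b : ℤ) [J.IsStrictlyGE b] (hJ : ∀ i, IsAcyc G₂ (J.X i))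
    (s : (E.mapHomologicalComplex (.up ℤ)).obj T ⟶ J) (hs : QuasiIso s) :
    QuasiIso ((bcCx bc).app T ≫ (G₂.mapHomologicalComplex (.up ℤ)).map s) := by
  have h1 := isIso_unitQ_of_isAcyc G T a hT
  have h2 := isIso_unitQ_of_isAcyc G₂ J b hJ
  have h3 := bcD_fac bc T
  have h4 : IsIso (DerivedCategory.Q.map s) := by
    rw [DerivedCategory.isIso_Q_map_iff_quasiIso]
    exact hs
  have h5 := (unitQ G₂).naturality s
  have h6 : IsIso (E'.mapDerivedCategoryFactors.hom.app ((G.mapHomologicalComplex (.up ℤ)).obj T) ≫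
        DerivedCategory.Q.map ((bcCx bc).app T) ≫
        (unitQ G₂).app ((E.mapHomologicalComplex (.up ℤ)).obj T) ≫
        (TR G₂).map (E.mapDerivedCategoryFactors.inv.app T)) := by
    rw [← h3]
    infer_instance
  have h7 := IsIso.of_isIso_comp_left
    (E'.mapDerivedCategoryFactors.hom.app ((G.mapHomologicalComplex (.up ℤ)).obj T))
    (DerivedCategory.Q.map ((bcCx bc).app T) ≫
        (unitQ G₂).app ((E.mapHomologicalComplex (.up ℤ)).obj T) ≫
        (TR G₂).map (E.mapDerivedCategoryFactors.inv.app T))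
  have h8 : IsIso (DerivedCategory.Q.map ((bcCx bc).app T) ≫
        (unitQ G₂).app ((E.mapHomologicalComplex (.up ℤ)).obj T)) := by
    rw [← Category.assoc] at h7
    exact IsIso.of_isIso_comp_right _ ((TR G₂).map (E.mapDerivedCategoryFactors.inv.app T))
  rw [← DerivedCategory.isIso_Q_map_iff_quasiIso, Functor.map_comp]
  have h9 : IsIso ((DerivedCategory.Q.map ((bcCx bc).app T) ≫
      DerivedCategory.Q.map ((G₂.mapHomologicalComplex (.up ℤ)).map s)) ≫ (unitQ G₂).app J) := by
    have h10 : (DerivedCategory.Q.map ((bcCx bc).app T) ≫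
      DerivedCategory.Q.map ((G₂.mapHomologicalComplex (.up ℤ)).map s)) ≫ (unitQ G₂).app J =
      (DerivedCategory.Q.map ((bcCx bc).app T) ≫
        (unitQ G₂).app ((E.mapHomologicalComplex (.up ℤ)).obj T)) ≫ (TR G₂).map (DerivedCategory.Q.map s) := by
      rw [Category.assoc, Category.assoc]
      exact congrArg (fun t => _ ≫ t) h5
    rw [h10]
    infer_instance
  exact IsIso.of_isIso_comp_right _ ((unitQ G₂).app J)

end abs

section etale

open Groth.Agent.Sga4h.BidLimAb Groth.Agent.EtpbcB Groth.Agent.EtpbcB.BCCalc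

variable {Λ : Type (u + 1)} [CommRing Λ] {X Y Z X' Y' : Scheme.{u}}

theorem pushModComp_hom_app_app (f : X ⟶ Y) (g : Z ⟶ X) (F : EtModW.Mod Λ Z) (U : Y.Etale) :
    ((EtSix.pushModComp Λ f g).hom.app F).hom.app (op U) = F.obj.map (compIso f g U).hom.op := rfl

theorem pushModComp_inv_app_app (f : X ⟶ Y) (g : Z ⟶ X) (F : EtModW.Mod Λ Z) (U : Y.Etale) :
    ((EtSix.pushModComp Λ f g).inv.app F).hom.app (op U) = F.obj.map (compIso f g U).inv.op := rfl

theorem pushModCongr_hom_app_app {f f' : X ⟶ Y} (h : f = f') (F : EtModW.Mod Λ X) (U : Y.Etale) :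
    ((EtSix.pushModCongr Λ h).hom.app F).hom.app (op U) = F.obj.map (congrIso h U).inv.op := rfl

variable {f : X ⟶ Y} {g : Y' ⟶ Y} {f' : X' ⟶ Y'} {g' : X' ⟶ X}

/-- The composite of the composition isomorphisms of the prelude. -/
theorem sqM_eq (w : g' ≫ f = f' ≫ g) (F : EtModW.Mod Λ X') :
    ((EtSix.pushModComp Λ f g').hom ≫ (EtSix.pushModCongr Λ w).hom ≫
      (EtSix.pushModComp Λ g f').inv).app F = (sqM Λ w).hom.app F := by
  apply Sheaf.hom_ext
  refine NatTrans.ext (funext fun U => ?_)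
  obtain ⟨U⟩ := U
  have h : F.obj.map (theta w U).hom.op = F.obj.map (compIso f g' U).hom.op ≫
      F.obj.map (congrIso w U).inv.op ≫ F.obj.map (compIso g f' U).inv.op := by
    simp only [theta, Iso.trans_hom, Iso.symm_hom, op_comp, Functor.map_comp, Category.assoc]
  exact h.symm

/-- The degree zero base change transformation. -/
noncomputable def bcN (w : g' ≫ f = f' ≫ g) :
    EtModW.push Λ f ⋙ EtModW.pull Λ g ⟶ EtModW.pull Λ g' ⋙ EtModW.push Λ f' :=
  MateCalc.bcNat (Etrest.ModAb.pullPushAdj Λ g) (Etrest.ModAb.pullPushAdj Λ g') (sqM Λ w).hom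

theorem bcN_app (w : g' ≫ f = f' ≫ g) (M : EtModW.Mod Λ X) : (bcN w).app M = bcM Λ w M := rfl

theorem hα (w : g' ≫ f = f' ≫ g) (M : EtModW.Mod Λ X) :
    (EtSix.pullPushModAdj Λ g).unit.app ((EtModW.push Λ f).obj M) ≫ (EtModW.push Λ g).map ((bcN w).app M) =
      (EtSix.pushToPushPullMod Λ f g f' g' w).app M := by
  refine (unit_bcM w M).trans ?_
  rw [← sqM_eq]
  simp only [EtSix.pushToPushPullMod, NatTrans.comp_app, Functor.leftUnitor_inv_app,
    Functor.whiskerRight_app, Functor.associator_hom_app, Functor.whiskerLeft_app, Category.id_comp]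

instance preservesFiniteLimits_pull (f : X ⟶ Y) : PreservesFiniteLimits (EtModW.pull Λ f) := by
  have h1 : PreservesFiniteLimits (EtCoh.pull f) := Groth.Agent.S0101.result f
  have h2 : PreservesFiniteLimits (EtModW.pull Λ f ⋙ Etrest.ModAb.ab Λ X) :=
    preservesFiniteLimits_of_natIso (Etrest.ModAb.pullIso Λ f).symm
  exact preservesFiniteLimits_of_reflects_of_preserves _ (Etrest.ModAb.ab Λ X)

theorem preservesFiniteColimits_pull (f : X ⟶ Y) : PreservesFiniteColimits (EtModW.pull Λ f) :=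
  haveI : PreservesColimitsOfSize.{0, 0} (EtModW.pull Λ f) :=
    (Etrest.ModAb.pullPushAdj Λ f).leftAdjoint_preservesColimits
  PreservesColimitsOfSize.preservesFiniteColimits.{0, 0} _

open Groth.Agent.Etrest Groth.Agent.Etrest.ModAb

/-- The isomorphism `ab (g^* K) ≅ g^{-1} (ab K)` on complexes. -/
noncomputable def pullIsoCx (g : X ⟶ Y) (K : CochainComplex (EtModW.Mod Λ Y) ℤ) :
    ((ab Λ X).mapHomologicalComplex (.up ℤ)).obj (((EtModW.pull Λ g).mapHomologicalComplex (.up ℤ)).obj K) ≅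
      ((EtCoh.pull g).mapHomologicalComplex (.up ℤ)).obj (((ab Λ Y).mapHomologicalComplex (.up ℤ)).obj K) :=
  HomologicalComplex.Hom.isoOfComponents (fun i => (pullIso Λ g).app (K.X i))
    (fun i j _ => ((pullIso Λ g).hom.naturality (K.d i j)).symm)

/-- Auxiliary chase. -/
theorem aux {D : Type*} [Category* D] {P Q Q' R P' P'' T : D} (a : P ⟶ Q) (b : Q ⟶ Q') (c : Q' ⟶ R)
    (c' : R ⟶ Q') (hc : c ≫ c' = 𝟙 _) (p : P ⟶ P') (q : P' ⟶ P'') (r : P'' ⟶ R)
    (h : a ≫ b ≫ c = p ≫ q ≫ r) (t : Q' ⟶ T) (t0 : Q ⟶ T) (ht : b ≫ t = t0) :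
    a ≫ t0 = p ≫ q ≫ r ≫ c' ≫ t := by
  subst ht
  have h1 := congrArg (fun z => z ≫ c' ≫ t) h
  simp only [Category.assoc] at h1
  rw [reassoc_of% hc] at h1
  exact h1

theorem ab_bcM_comp (w : g' ≫ f = f' ≫ g) {M : EtModW.Mod Λ X} {N : EtModW.Mod Λ X'}
    (s : (EtModW.pull Λ g').obj M ⟶ N) :
    (ab Λ Y').map (bcM Λ w M ≫ (EtModW.push Λ f').map s) =
      (pullIso Λ g).hom.app ((EtModW.push Λ f).obj M) ≫
        EtCoh.baseChange0 f g f' g' w ((ab Λ X).obj M) ≫
          (EtCoh.push f').map ((pullIso Λ g').inv.app M ≫ (ab Λ X').map s) := by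
  have h1 := aux ((ab Λ Y').map (bcM Λ w M)) ((pushIso Λ f').hom.app _)
    ((EtCoh.push f').map ((pullIso Λ g').hom.app M)) ((EtCoh.push f').map ((pullIso Λ g').inv.app M))
    (by
      rw [← Functor.map_comp, Iso.hom_inv_id_app]
      exact (EtCoh.push f').map_id _)
    ((pullIso Λ g).hom.app ((EtModW.push Λ f).obj M)) ((EtCoh.pull g).map ((pushIso Λ f).hom.app M))
    (EtCoh.baseChange0 f g f' g' w ((ab Λ X).obj M)) (ab_bcM w M) ((EtCoh.push f').map ((ab Λ X').map s))
    ((ab Λ Y').map ((EtModW.push Λ f').map s)) (Category.id_comp _)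
  have h2 : (EtCoh.pull g).map ((pushIso Λ f).hom.app M) = 𝟙 _ := (EtCoh.pull g).map_id _
  rw [h2] at h1
  rw [Functor.map_comp, Functor.map_comp]
  refine h1.trans ?_
  exact congrArg (fun t => _ ≫ t) (Category.id_comp _)

/-- The base change morphism of complexes of modules and of the underlying complexes of abelian sheaves. -/
theorem ab_bcCx (w : g' ≫ f = f' ≫ g) (L : CochainComplex (EtModW.Mod Λ X) ℤ)
    (J : CochainComplex (EtModW.Mod Λ X') ℤ)
    (s : ((EtModW.pull Λ g').mapHomologicalComplex (.up ℤ)).obj L ⟶ J) :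
    ((ab Λ Y').mapHomologicalComplex (.up ℤ)).map (BcPlus.bcCx (bcN w) L ≫
      ((EtModW.push Λ f').mapHomologicalComplex (.up ℤ)).map s) =
    (pullIsoCx g (((EtModW.push Λ f).mapHomologicalComplex (.up ℤ)).obj L)).hom ≫
      (RDer4.bcCx (bcNat w)).app (((ab Λ X).mapHomologicalComplex (.up ℤ)).obj L) ≫
        ((EtCoh.push f').mapHomologicalComplex (.up ℤ)).map ((pullIsoCx g' L).inv ≫
          ((ab Λ X').mapHomologicalComplex (.up ℤ)).map s) := by
  ext i : 1
  exact ab_bcM_comp w (s.f i)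

attribute [local instance] HasDerivedCategory.standard

theorem isAcyc_ab (f : X ⟶ Y) (I : EtModW.Mod Λ X) [Injective I] :
    RDer2.IsAcyc (EtCoh.push f) ((ab Λ X).obj I) :=
  fun n => acyclic_ab Λ I f (n + 1) (by omega)

/-- The underlying complex of abelian sheaves. -/
noncomputable abbrev abCx (L : CochainComplex (EtModW.Mod Λ X) ℤ) : CochainComplex (EtCoh.Ab X) ℤ :=
  ((ab Λ X).mapHomologicalComplex (.up ℤ)).obj L

theorem quasiIso_bcCx (w : g' ≫ f = f' ≫ g) (L : CochainComplex (EtModW.Mod Λ X) ℤ) (a : ℤ)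
    [L.IsStrictlyGE a] (hL : ∀ i, Injective (L.X i)) (J : CochainComplex (EtModW.Mod Λ X') ℤ) (b : ℤ)
    [J.IsStrictlyGE b] (hJ : ∀ i, Injective (J.X i))
    (s : ((EtModW.pull Λ g').mapHomologicalComplex (.up ℤ)).obj L ⟶ J) (hs : QuasiIso s)
    (h : IsIso ((DEtPush.bcEt w).app (DerivedCategory.Q.obj (abCx L)))) :
    QuasiIso (BcPlus.bcCx (bcN w) L ≫ ((EtModW.push Λ f').mapHomologicalComplex (.up ℤ)).map s) := by
  rw [← HomologicalComplex.quasiIso_map_iff_of_preservesHomology _ (ab Λ Y'), ab_bcCx]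
  have h1 : QuasiIso ((pullIsoCx g' L).inv ≫ ((ab Λ X').mapHomologicalComplex (.up ℤ)).map s) :=
    inferInstance
  have h2 : (abCx L).IsStrictlyGE a := inferInstance
  have h3 : (abCx J).IsStrictlyGE b := inferInstance
  have h4 : QuasiIso ((RDer4.bcCx (bcNat w)).app (((ab Λ X).mapHomologicalComplex (.up ℤ)).obj L) ≫
        ((EtCoh.push f').mapHomologicalComplex (.up ℤ)).map ((pullIsoCx g' L).inv ≫
          ((ab Λ X').mapHomologicalComplex (.up ℤ)).map s)) :=
    quasiIso_of_isIso_bcD (bcNat w) (abCx L) a (fun i => by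
      have := hL i
      exact isAcyc_ab f (L.X i)) h (abCx J) b (fun i => by
      have := hJ i
      exact isAcyc_ab f' (J.X i)) _ h1
  have h5 : QuasiIso (pullIsoCx g (((EtModW.push Λ f).mapHomologicalComplex (.up ℤ)).obj L)).hom :=
    inferInstance
  exact quasiIso_comp (hφ := h5) (hφ' := h4) _ _

/-- `bcMapMod` is an isomorphism at `K` if the derived base change transformation for abelian sheaves is an
isomorphism at the underlying complexes of abelian sheaves. -/
theorem isIso_bcMapMod (w : g' ≫ f = f' ≫ g)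
    (adj : (EtModW.pull Λ g).rightDerivedFunctorPlus ⊣ (EtModW.push Λ g).rightDerivedFunctorPlus)
    (K : DerivedCategory.Plus (EtModW.Mod Λ X))
    (h : ∀ L : CochainComplex.Plus (EtModW.Mod Λ X),
      Nonempty (DerivedCategory.Plus.Qh.obj ((HomotopyCategory.Plus.quotient _).obj L) ≅ K) →
      IsIso ((DEtPush.bcEt w).app (DerivedCategory.Q.obj (abCx L.obj)))) :
    IsIso (EtSix.bcMapMod Λ f g f' g' w adj K) := by
  obtain ⟨L₀, ⟨e⟩⟩ : ((InjectiveObject.ι (EtModW.Mod Λ X)).mapHomotopyCategoryPlus ⋙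
    DerivedCategory.Plus.Qh).essImage K := Functor.EssSurj.mem_essImage _ K
  obtain ⟨L₁, rfl⟩ := HomotopyCategory.Plus.quotient_obj_surjective L₀
  let L : CochainComplex.Plus (EtModW.Mod Λ X) :=
    (InjectiveObject.ι (EtModW.Mod Λ X)).mapCochainComplexPlus.obj L₁
  let e' : DerivedCategory.Plus.Qh.obj ((HomotopyCategory.Plus.quotient _).obj L) ≅ K := e
  obtain ⟨a, ha⟩ := L.property
  let EL : CochainComplex.Plus (EtModW.Mod Λ X') := (EtModW.pull Λ g').mapCochainComplexPlus.obj L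
  obtain ⟨b, hb⟩ := EL.property
  obtain ⟨J₁, hJ₁, s, hs⟩ := CochainComplex.Plus.exists_quasiIso_injective EL b
  let J : CochainComplex.Plus (EtModW.Mod Λ X') :=
    (InjectiveObject.ι (EtModW.Mod Λ X')).mapCochainComplexPlus.obj J₁
  have hJ : J.obj.IsStrictlyGE b := by
    have := hJ₁
    exact inferInstanceAs (CochainComplex.IsStrictlyGE
      (((InjectiveObject.ι (EtModW.Mod Λ X')).mapHomologicalComplex (.up ℤ)).obj J₁.obj) b)
  have h1 : ∀ i, Injective (L.obj.X i) := fun i => (L₁.obj.X i).property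
  have h2 : ∀ i, Injective (J.obj.X i) := fun i => (J₁.obj.X i).property
  refine BcPlus.isIso_bcMap_of_iso (EtSix.pushToPushPullMod Λ f g f' g' w) adj e' ?_
  refine BcPlus.isIso_bcMap (EtSix.pullPushModAdj Λ g) (bc := bcN w)
    (α := EtSix.pushToPushPullMod Λ f g f' g' w) (hα w) (preservesFiniteColimits_pull g') adj L J s hs
    ?_ ?_ ?_
  · exact inferInstanceAs (IsIso ((EtModW.push Λ f).rightDerivedFunctorPlusUnit.app
      ((InjectiveObject.ι _).mapHomotopyCategoryPlus.obj ((HomotopyCategory.Plus.quotient _).obj L₁))))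
  · exact inferInstanceAs (IsIso ((EtModW.push Λ f').rightDerivedFunctorPlusUnit.app
      ((InjectiveObject.ι _).mapHomotopyCategoryPlus.obj ((HomotopyCategory.Plus.quotient _).obj J₁))))
  · exact quasiIso_bcCx w L.obj a h1 J.obj b h2 s.hom hs (h L ⟨e'⟩)

end etale

end Groth.Agent.Etsix.H627.BcModAb
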