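import Groth.Agent.Etdl.H424.PlusAdj
import Groth.Prelude.Def_SixF1

/-!
# The abstract base change morphism on bounded below derived categories

`G : A ⥤ B`, `G₂ : A₂ ⥤ B₂`, `E : A ⥤ A₂` and `E' : B ⥤ B₂` exact, `E' ⊣ H`, `bc : G ⋙ E' ⟶ E ⋙ G₂` with
transpose `α : G ⟶ E ⋙ G₂ ⋙ H`.

* `bcMap α adj K`: the transpose of `EtSix.rPlusDesc₃ α` at `K` under an adjunction
  `adj : E'.rightDerivedFunctorPlus ⊣ H.rightDerivedFunctorPlus`;
* `bcMap_fac`: its characterization on complexes for the adjunction `PlusAdj.dadj`;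
* `isIso_bcMap_congr`: whether it is an isomorphism does not depend on `adj`;
* `isIso_bcMap`: criterion in terms of a resolution `E K ⟶ J`.
-/

set_option autoImplicit false

universe w₁ w₂ w₃ w₄ v₁ v₂ v₃ v₄ u₁ u₂ u₃ u₄

open CategoryTheory Category Limits

namespace Groth.Agent.Etsix.H627.BcPlus

open Groth.Agent.Etdl.H424.PlusAdj

section transpose

/-- Transposes under two adjunctions between the same functors. -/
theorem transpose_uniq {C D : Type*} [Category* C] [Category* D] {L : C ⥤ D} {R : D ⥤ C}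
    (adj₁ adj₂ : L ⊣ R) {X : C} {Y : D} (f : X ⟶ R.obj Y) :
    (adj₁.homEquiv _ _).symm f = (Adjunction.leftAdjointUniq adj₁ adj₂).hom.app X ≫
      (adj₂.homEquiv _ _).symm f := by
  rw [Equiv.symm_apply_eq, Adjunction.homEquiv_unit, Functor.map_comp,
    Adjunction.unit_leftAdjointUniq_hom_app_assoc, Adjunction.homEquiv_counit, Functor.map_comp,
    Adjunction.unit_naturality_assoc]
  simp

theorem isIso_transpose_iff {C D : Type*} [Category* C] [Category* D] {L : C ⥤ D} {R : D ⥤ C}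
    (adj₁ adj₂ : L ⊣ R) {X : C} {Y : D} (f : X ⟶ R.obj Y) :
    IsIso ((adj₁.homEquiv _ _).symm f) ↔ IsIso ((adj₂.homEquiv _ _).symm f) := by
  rw [transpose_uniq adj₁ adj₂, isIso_comp_left_iff]

end transpose

section Ho

variable {A : Type u₁} [Category.{v₁} A] [Abelian A]
  {B : Type u₂} [Category.{v₂} B] [Abelian B]
  {A₂ : Type u₃} [Category.{v₃} A₂] [Abelian A₂]
  {B₂ : Type u₄} [Category.{v₄} B₂] [Abelian B₂]
  {G : A ⥤ B} [G.Additive] {G₂ : A₂ ⥤ B₂} [G₂.Additive]
  {E : A ⥤ A₂} [E.Additive] {E' : B ⥤ B₂} [E'.Additive] {H : B₂ ⥤ B} [H.Additive]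

/-- A natural transformation `G ⋙ E' ⟶ E ⋙ G₂` on complexes. -/
@[simps]
def bcCx (bc : G ⋙ E' ⟶ E ⋙ G₂) (K : CochainComplex A ℤ) :
    (E'.mapHomologicalComplex (.up ℤ)).obj ((G.mapHomologicalComplex (.up ℤ)).obj K) ⟶
      (G₂.mapHomologicalComplex (.up ℤ)).obj ((E.mapHomologicalComplex (.up ℤ)).obj K) where
  f i := bc.app (K.X i)
  comm' i j _ := (bc.naturality (K.d i j)).symm

/-- `bcCx` in the homotopy category. -/
def bcHo (bc : G ⋙ E' ⟶ E ⋙ G₂) (K : HomotopyCategory.Plus A) :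
    E'.mapHomotopyCategoryPlus.obj (G.mapHomotopyCategoryPlus.obj K) ⟶
      G₂.mapHomotopyCategoryPlus.obj (E.mapHomotopyCategoryPlus.obj K) :=
  ObjectProperty.homMk ((HomotopyCategory.quotient B₂ (.up ℤ)).map (bcCx bc K.obj.as))

/-- The transpose `α : G ⟶ E ⋙ G₂ ⋙ H` on complexes. -/
@[simps]
def alphaCx (α : G ⟶ E ⋙ G₂ ⋙ H) (K : CochainComplex A ℤ) :
    (G.mapHomologicalComplex (.up ℤ)).obj K ⟶ (H.mapHomologicalComplex (.up ℤ)).obj
      ((G₂.mapHomologicalComplex (.up ℤ)).obj ((E.mapHomologicalComplex (.up ℤ)).obj K)) where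
  f i := α.app (K.X i)
  comm' i j _ := (α.naturality (K.d i j)).symm

/-- `alphaCx` in the homotopy category. -/
def alphaHo (α : G ⟶ E ⋙ G₂ ⋙ H) (K : HomotopyCategory.Plus A) :
    G.mapHomotopyCategoryPlus.obj K ⟶ H.mapHomotopyCategoryPlus.obj
      (G₂.mapHomotopyCategoryPlus.obj (E.mapHomotopyCategoryPlus.obj K)) :=
  ObjectProperty.homMk ((HomotopyCategory.quotient B (.up ℤ)).map (alphaCx α K.obj.as))

theorem alphaHo_eq (α : G ⟶ E ⋙ G₂ ⋙ H) (K : HomotopyCategory.Plus A) :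
    (EtSix.plusNatTrans α).app K ≫
      (Functor.mapHomotopyCategoryPlusCompIso (Iso.refl (E ⋙ (G₂ ⋙ H)))).inv.app K ≫
      (Functor.mapHomotopyCategoryPlusCompIso (Iso.refl (G₂ ⋙ H))).inv.app
        (E.mapHomotopyCategoryPlus.obj K) = alphaHo α K := by
  have h1 : (EtSix.plusNatTrans α).app K = alphaHo α K := rfl
  have h2 : (Functor.mapHomotopyCategoryPlusCompIso (Iso.refl (E ⋙ (G₂ ⋙ H)))).inv.app K = 𝟙 _ := by
    ext
    exact CategoryTheory.Functor.map_id (HomotopyCategory.quotient B (.up ℤ)) _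
  have h3 : (Functor.mapHomotopyCategoryPlusCompIso (Iso.refl (G₂ ⋙ H))).inv.app
        (E.mapHomotopyCategoryPlus.obj K) = 𝟙 _ := by
    ext
    exact CategoryTheory.Functor.map_id (HomotopyCategory.quotient B (.up ℤ)) _
  rw [h1, h2, h3]
  exact (congrArg (fun t => _ ≫ t) (Category.comp_id _)).trans (Category.comp_id _)

theorem unit_bcHo (adj : E' ⊣ H) {bc : G ⋙ E' ⟶ E ⋙ G₂} {α : G ⟶ E ⋙ G₂ ⋙ H}
    (hα : ∀ F : A, adj.unit.app (G.obj F) ≫ H.map (bc.app F) = α.app F)
    (K : HomotopyCategory.Plus A) :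
    (adjHo adj).unit.app (G.mapHomotopyCategoryPlus.obj K) ≫
      H.mapHomotopyCategoryPlus.map (bcHo bc K) = alphaHo α K := by
  ext
  refine ((HomotopyCategory.quotient B (.up ℤ)).map_comp
    ((adjCx adj (.up ℤ)).unit.app ((G.mapHomologicalComplex (.up ℤ)).obj K.obj.as))
    ((H.mapHomologicalComplex (.up ℤ)).map (bcCx bc K.obj.as))).symm.trans ?_
  refine congrArg (fun t => (HomotopyCategory.quotient B (.up ℤ)).map t) ?_
  ext i
  exact hα (K.obj.as.X i)

end Ho

section bcMap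

variable {A : Type u₁} [Category.{v₁} A] [Abelian A] [HasDerivedCategory.{w₁} A] [EnoughInjectives A]
  {B : Type u₂} [Category.{v₂} B] [Abelian B] [HasDerivedCategory.{w₂} B] [EnoughInjectives B]
  {A₂ : Type u₃} [Category.{v₃} A₂] [Abelian A₂] [HasDerivedCategory.{w₃} A₂] [EnoughInjectives A₂]
  {B₂ : Type u₄} [Category.{v₄} B₂] [Abelian B₂] [HasDerivedCategory.{w₄} B₂] [EnoughInjectives B₂]
  {G : A ⥤ B} [G.Additive] {G₂ : A₂ ⥤ B₂} [G₂.Additive]
  {E : A ⥤ A₂} [E.Additive] {E' : B ⥤ B₂} [E'.Additive] {H : B₂ ⥤ B} [H.Additive]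

/-- The abstract base change morphism. -/
noncomputable def bcMap (α : G ⟶ E ⋙ G₂ ⋙ H)
    (adj : E'.rightDerivedFunctorPlus ⊣ H.rightDerivedFunctorPlus) (K : DerivedCategory.Plus A) :
    E'.rightDerivedFunctorPlus.obj (G.rightDerivedFunctorPlus.obj K) ⟶
      G₂.rightDerivedFunctorPlus.obj (E.rightDerivedFunctorPlus.obj K) :=
  (adj.homEquiv _ _).symm ((EtSix.rPlusDesc₃ α).app K)

theorem isIso_bcMap_congr (α : G ⟶ E ⋙ G₂ ⋙ H)
    (adj adj' : E'.rightDerivedFunctorPlus ⊣ H.rightDerivedFunctorPlus) (K : DerivedCategory.Plus A) :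
    IsIso (bcMap α adj K) ↔ IsIso (bcMap α adj' K) :=
  isIso_transpose_iff adj adj' _

theorem bcMap_naturality (α : G ⟶ E ⋙ G₂ ⋙ H)
    (adj : E'.rightDerivedFunctorPlus ⊣ H.rightDerivedFunctorPlus) {K L : DerivedCategory.Plus A}
    (φ : K ⟶ L) :
    E'.rightDerivedFunctorPlus.map (G.rightDerivedFunctorPlus.map φ) ≫ bcMap α adj L =
      bcMap α adj K ≫ G₂.rightDerivedFunctorPlus.map (E.rightDerivedFunctorPlus.map φ) := by
  apply (adj.homEquiv _ _).injective
  rw [Adjunction.homEquiv_naturality_left, Adjunction.homEquiv_naturality_right, bcMap, bcMap,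
    Equiv.apply_symm_apply, Equiv.apply_symm_apply]
  exact (EtSix.rPlusDesc₃ α).naturality φ

theorem isIso_bcMap_of_iso (α : G ⟶ E ⋙ G₂ ⋙ H)
    (adj : E'.rightDerivedFunctorPlus ⊣ H.rightDerivedFunctorPlus) {K L : DerivedCategory.Plus A}
    (e : K ≅ L) (h : IsIso (bcMap α adj K)) : IsIso (bcMap α adj L) := by
  have h1 := bcMap_naturality α adj e.hom
  have h2 : IsIso (E'.rightDerivedFunctorPlus.map (G.rightDerivedFunctorPlus.map e.hom) ≫
      bcMap α adj L) := by
    rw [h1]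
    infer_instance
  exact IsIso.of_isIso_comp_left (E'.rightDerivedFunctorPlus.map (G.rightDerivedFunctorPlus.map e.hom)) _

omit [EnoughInjectives B] in
theorem rPlusUnit₃_app (α : G ⟶ E ⋙ G₂ ⋙ H) (K : HomotopyCategory.Plus A) :
    (EtSix.rPlusUnit₃ α).app K =
      DerivedCategory.Plus.Qh.map (alphaHo α K) ≫
        H.rightDerivedFunctorPlusUnit.app (G₂.mapHomotopyCategoryPlus.obj
          (E.mapHomotopyCategoryPlus.obj K)) ≫
        H.rightDerivedFunctorPlus.map (G₂.rightDerivedFunctorPlusUnit.app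
          (E.mapHomotopyCategoryPlus.obj K)) ≫
        H.rightDerivedFunctorPlus.map (G₂.rightDerivedFunctorPlus.map
          (E.rightDerivedFunctorPlusUnit.app K)) := by
  rw [← alphaHo_eq]
  simp only [EtSix.rPlusUnit₃, NatTrans.comp_app, Functor.whiskerRight_app, Functor.whiskerLeft_app,
    Functor.associator_hom_app, Functor.associator_inv_app, Category.id_comp, Category.comp_id]
  exact congrArg (fun t => _ ≫ t) (Category.assoc _ _ _)

omit [EnoughInjectives B] in
theorem rPlusDesc₃_fac (α : G ⟶ E ⋙ G₂ ⋙ H) (K : HomotopyCategory.Plus A) :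
    G.rightDerivedFunctorPlusUnit.app K ≫ (EtSix.rPlusDesc₃ α).app (DerivedCategory.Plus.Qh.obj K) =
      (EtSix.rPlusUnit₃ α).app K :=
  Functor.rightDerived_fac_app _ _ _ _ _ _

/-- Auxiliary chase. -/
theorem fac_aux {D D₂ : Type*} [Category* D] [Category* D₂] {L : D ⥤ D₂} {R : D₂ ⥤ D} (adj : L ⊣ R)
    {q r : D} (u : q ⟶ r) {t : D₂} (d : r ⟶ R.obj t) {e g : D₂} (ue : e ⟶ L.obj q) [IsIso ue]
    (b : e ⟶ g) (v : g ⟶ t) {q₁ q₂ : D} (η : q ⟶ q₁) (w : q₁ ⟶ R.obj e)
    (hη : adj.unit.app q = η ≫ w ≫ R.map ue) (hb : q₁ ⟶ q₂) (w' : q₂ ⟶ R.obj g)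
    (hw : w ≫ R.map b = hb ≫ w') (hd : u ≫ d = (η ≫ hb) ≫ w' ≫ R.map v) :
    ue ≫ L.map u ≫ (adj.homEquiv _ _).symm d = b ≫ v := by
  have h1 : L.map u ≫ (adj.homEquiv _ _).symm d = inv ue ≫ b ≫ v := by
    apply (adj.homEquiv _ _).injective
    rw [Adjunction.homEquiv_naturality_left, Equiv.apply_symm_apply, hd, Adjunction.homEquiv_unit, hη]
    simp only [Functor.map_comp, Category.assoc]
    rw [← R.map_comp_assoc ue (inv ue), IsIso.hom_inv_id, R.map_id, Category.id_comp, reassoc_of% hw]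
  rw [h1, IsIso.hom_inv_id_assoc]

theorem isIso_unit_app' {C D : Type*} [Category* C] [Category* D] [Abelian C] [Abelian D]
    [HasDerivedCategory C] [HasDerivedCategory D] [EnoughInjectives C] (F : C ⥤ D) [F.Additive]
    (h1 : PreservesFiniteLimits F) (h2 : PreservesFiniteColimits F) (K : HomotopyCategory.Plus C) :
    IsIso (F.rightDerivedFunctorPlusUnit.app K) := by
  have h := isIso_unit F
  exact NatIso.isIso_app_of_isIso F.rightDerivedFunctorPlusUnit K

variable [PreservesFiniteLimits E']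

/-- The characterization of the base change morphism on complexes. -/
theorem bcMap_fac (adj : E' ⊣ H) {bc : G ⋙ E' ⟶ E ⋙ G₂} {α : G ⟶ E ⋙ G₂ ⋙ H}
    (hα : ∀ F : A, adj.unit.app (G.obj F) ≫ H.map (bc.app F) = α.app F)
    (K : HomotopyCategory.Plus A) :
    E'.rightDerivedFunctorPlusUnit.app (G.mapHomotopyCategoryPlus.obj K) ≫
      E'.rightDerivedFunctorPlus.map (G.rightDerivedFunctorPlusUnit.app K) ≫
        bcMap α (dadj adj) (DerivedCategory.Plus.Qh.obj K) =
      DerivedCategory.Plus.Qh.map (bcHo bc K) ≫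
        G₂.rightDerivedFunctorPlusUnit.app (E.mapHomotopyCategoryPlus.obj K) ≫
          G₂.rightDerivedFunctorPlus.map (E.rightDerivedFunctorPlusUnit.app K) := by
  have hFc : PreservesFiniteColimits E' := by
    have : PreservesColimitsOfSize.{0, 0} E' := adj.leftAdjoint_preservesColimits
    exact PreservesColimitsOfSize.preservesFiniteColimits _
  have hu := isIso_unit_app' E' inferInstance hFc (G.mapHomotopyCategoryPlus.obj K)
  refine fac_aux (dadj adj) (G.rightDerivedFunctorPlusUnit.app K)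
    ((EtSix.rPlusDesc₃ α).app (DerivedCategory.Plus.Qh.obj K))
    (E'.rightDerivedFunctorPlusUnit.app (G.mapHomotopyCategoryPlus.obj K))
    (DerivedCategory.Plus.Qh.map (bcHo bc K)) _ _ _
    (dadj_unit adj (G.mapHomotopyCategoryPlus.obj K))
    (DerivedCategory.Plus.Qh.map (H.mapHomotopyCategoryPlus.map (bcHo bc K)))
    (H.rightDerivedFunctorPlusUnit.app _)
    (H.rightDerivedFunctorPlusUnit.naturality (bcHo bc K)).symm ?_
  have h1 := congrArg (fun t => DerivedCategory.Plus.Qh.map t) (unit_bcHo adj hα K)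
  rw [Functor.map_comp] at h1
  rw [rPlusDesc₃_fac, rPlusUnit₃_app, ← h1, ← H.rightDerivedFunctorPlus.map_comp]

/-- Quasi-isomorphisms of bounded below complexes, as isomorphisms in the derived category. -/
theorem isIso_Qh_map {C : Type*} [Category* C] [Abelian C] [HasDerivedCategory C]
    {K L : HomotopyCategory.Plus C} (f : K ⟶ L) (hf : HomotopyCategory.quasiIso C (.up ℤ) f.hom) :
    IsIso (DerivedCategory.Plus.Qh.map f) :=
  Localization.inverts DerivedCategory.Plus.Qh (HomotopyCategory.Plus.quasiIso C) _ hf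

/-- Auxiliary: cancellation. -/
theorem iso_aux {D : Type*} [Category* D] {a b c d e f g : D} (x : a ⟶ b) [IsIso x] (y : b ⟶ c) [IsIso y]
    (m : c ⟶ d) (p : a ⟶ e) (q : e ⟶ f) (r : f ⟶ d) [IsIso r] (h : x ≫ y ≫ m = p ≫ q ≫ r)
    (s : f ⟶ g) [IsIso s] (t : IsIso (p ≫ q ≫ s)) : IsIso m := by
  have h1 : IsIso (p ≫ q) := by
    have : IsIso ((p ≫ q) ≫ s) := by
      rw [Category.assoc]
      exact t
    exact IsIso.of_isIso_comp_right _ s
  have h2 : IsIso (x ≫ y ≫ m) := by
    rw [h, ← Category.assoc]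
    infer_instance
  have h3 : IsIso (y ≫ m) := IsIso.of_isIso_comp_left x _
  exact IsIso.of_isIso_comp_left y _

variable [PreservesFiniteLimits E]

/-- Criterion for the base change morphism to be an isomorphism: `K` a complex of `G`-acyclic objects,
`s : E K ⟶ J` a quasi-isomorphism to a complex of `G₂`-acyclic objects such that `bc_K ≫ G₂ s` is a
quasi-isomorphism. -/
theorem isIso_bcMap (adj : E' ⊣ H) {bc : G ⋙ E' ⟶ E ⋙ G₂} {α : G ⟶ E ⋙ G₂ ⋙ H}
    (hα : ∀ F : A, adj.unit.app (G.obj F) ≫ H.map (bc.app F) = α.app F)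
    (hE : PreservesFiniteColimits E)
    (dj : E'.rightDerivedFunctorPlus ⊣ H.rightDerivedFunctorPlus)
    (K : CochainComplex.Plus A) (J : CochainComplex.Plus A₂)
    (s : E.mapCochainComplexPlus.obj K ⟶ J) (hs : QuasiIso s.hom)
    (hK : IsIso (G.rightDerivedFunctorPlusUnit.app ((HomotopyCategory.Plus.quotient A).obj K)))
    (hJ : IsIso (G₂.rightDerivedFunctorPlusUnit.app ((HomotopyCategory.Plus.quotient A₂).obj J)))
    (h : QuasiIso (bcCx bc K.obj ≫ (G₂.mapHomologicalComplex (.up ℤ)).map s.hom)) :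
    IsIso (bcMap α dj (DerivedCategory.Plus.Qh.obj ((HomotopyCategory.Plus.quotient A).obj K))) := by
  rw [isIso_bcMap_congr α dj (dadj adj)]
  have hFc : PreservesFiniteColimits E' := by
    have : PreservesColimitsOfSize.{0, 0} E' := adj.leftAdjoint_preservesColimits
    exact PreservesColimitsOfSize.preservesFiniteColimits _
  have hu' := isIso_unit_app' E' inferInstance hFc (G.mapHomotopyCategoryPlus.obj
    ((HomotopyCategory.Plus.quotient A).obj K))
  have hu := isIso_unit_app' E inferInstance hE ((HomotopyCategory.Plus.quotient A).obj K)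
  have hK' : IsIso (E'.rightDerivedFunctorPlus.map (G.rightDerivedFunctorPlusUnit.app
    ((HomotopyCategory.Plus.quotient A).obj K))) :=
    @Functor.map_isIso _ _ _ _ _ _ E'.rightDerivedFunctorPlus _ hK
  have hE' : IsIso (G₂.rightDerivedFunctorPlus.map (E.rightDerivedFunctorPlusUnit.app
    ((HomotopyCategory.Plus.quotient A).obj K))) :=
    @Functor.map_isIso _ _ _ _ _ _ G₂.rightDerivedFunctorPlus _ hu
  let s' : E.mapHomotopyCategoryPlus.obj ((HomotopyCategory.Plus.quotient A).obj K) ⟶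
    (HomotopyCategory.Plus.quotient A₂).obj J := (HomotopyCategory.Plus.quotient A₂).map s
  have hs' : IsIso (DerivedCategory.Plus.Qh.map s') :=
    isIso_Qh_map s' ((HomotopyCategory.quotient_map_mem_quasiIso_iff s.hom).2 hs)
  have hs'' : IsIso (G₂.rightDerivedFunctorPlus.map (DerivedCategory.Plus.Qh.map s')) :=
    @Functor.map_isIso _ _ _ _ _ _ G₂.rightDerivedFunctorPlus _ hs'
  have h1 := G₂.rightDerivedFunctorPlusUnit.naturality s'
  have h2 : IsIso (DerivedCategory.Plus.Qh.map (bcHo bc ((HomotopyCategory.Plus.quotient A).obj K) ≫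
      G₂.mapHomotopyCategoryPlus.map s')) := by
    refine isIso_Qh_map _ ?_
    have h3 : HomotopyCategory.quasiIso B₂ (.up ℤ) ((HomotopyCategory.quotient B₂ (.up ℤ)).map
      (bcCx bc K.obj ≫ (G₂.mapHomologicalComplex (.up ℤ)).map s.hom)) :=
      (HomotopyCategory.quotient_map_mem_quasiIso_iff _).2 h
    rw [Functor.map_comp] at h3
    exact h3
  refine iso_aux (E'.rightDerivedFunctorPlusUnit.app (G.mapHomotopyCategoryPlus.obj
    ((HomotopyCategory.Plus.quotient A).obj K)))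
    (E'.rightDerivedFunctorPlus.map (G.rightDerivedFunctorPlusUnit.app
    ((HomotopyCategory.Plus.quotient A).obj K))) _ _ _
    (G₂.rightDerivedFunctorPlus.map (E.rightDerivedFunctorPlusUnit.app
    ((HomotopyCategory.Plus.quotient A).obj K)))
    (bcMap_fac adj hα ((HomotopyCategory.Plus.quotient A).obj K))
    (G₂.rightDerivedFunctorPlus.map (DerivedCategory.Plus.Qh.map s')) ?_
  have h4 : IsIso (DerivedCategory.Plus.Qh.map (bcHo bc ((HomotopyCategory.Plus.quotient A).obj K) ≫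
      G₂.mapHomotopyCategoryPlus.map s') ≫ G₂.rightDerivedFunctorPlusUnit.app
        ((HomotopyCategory.Plus.quotient A₂).obj J)) := inferInstance
  rw [Functor.map_comp, Category.assoc] at h4
  have h5 := congrArg (fun t => DerivedCategory.Plus.Qh.map
    (bcHo bc ((HomotopyCategory.Plus.quotient A).obj K)) ≫ t) h1
  exact (congrArg IsIso h5).mp h4

end bcMap

end Groth.Agent.Etsix.H627.BcPlus
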