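import Groth.Agent.Etsix.H627.BcModAb
import Groth.Prelude.Def_EtModD2

/-!
# Homology of the underlying complex of abelian sheaves of an object of `D^+(X, Λ)`
-/

set_option autoImplicit false

universe u

open CategoryTheory Category Limits AlgebraicGeometry Opposite

namespace Groth.Agent.Etsix.H627.BcTors

open Groth.Agent.Etsix.H627.BcModAb Groth.Agent.Etrest.ModAb

attribute [local instance] HasDerivedCategory.standard

variable {Λ : Type (u + 1)} [CommRing Λ] {X : Scheme.{u}}

/-- Homology of the underlying complex of abelian sheaves. -/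
noncomputable def homIso (L : CochainComplex.Plus (EtModW.Mod Λ X)) (n : ℤ) :
    DCoh.HDEt (DerivedCategory.Q.obj (abCx L.obj)) n ≅
      (EtModD.forgetToAb Λ X).obj ((DerivedCategory.Plus.homologyFunctor (EtModW.Mod Λ X) n).obj
        (DerivedCategory.Plus.Qh.obj ((HomotopyCategory.Plus.quotient _).obj L))) :=
  (DerivedCategory.homologyFunctorFactors (EtCoh.Ab X) n).app (abCx L.obj) ≪≫
    (L.obj.sc n).mapHomologyIso (ab Λ X) ≪≫
    (ab Λ X).mapIso (((DerivedCategory.homologyFunctorFactorsh (EtModW.Mod Λ X) n).app
      ((HomotopyCategory.quotient _ _).obj L.obj) ≪≫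
      (HomotopyCategory.homologyFunctorFactors (EtModW.Mod Λ X) (.up ℤ) n).app L.obj).symm)

end Groth.Agent.Etsix.H627.BcTors
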